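import Cfsg.Agent.Lib.H28.TitsM.Cert.StepsA
import Cfsg.Agent.Lib.H28.TitsM.Cert.StepsB
import Cfsg.Agent.Lib.H28.TitsM.Cert.StepsC
import Cfsg.Agent.Lib.H28.TitsM.Cert.StepsD
import Cfsg.Agent.Lib.H28.TitsM.Cert.StepsE
import Cfsg.Agent.Lib.H28.TitsM.Cert.StepsF

set_option autoImplicit false
set_option maxRecDepth 100000

/-! # Running the certificate: the path words fix the base point (generated) -/

namespace Cfsg.Agent.Lib.H28.TitsM.Cert

open Cfsg.Agent.Lib.H17.CosetCert Cfsg.Agent.Lib.H28.CosetCertD Cfsg.Agent.Lib.H28.TitsM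

variable {G Q : Type*} [Group G] [MulAction G Q] (γ : ℕ → G) (q0 : Q)

theorem run (hOK : WordsOK γ q0 words) : Inv F 14 γ q0 59814 4824 := by
  have h0 := inv_zero F 14 γ q0
  have h1 := checkSteps_soundD F 14 16777216 γ q0 words hOK steps0 0 1 483 h0 chk0
  rw [len0] at h1
  have h2 := checkSteps_soundD F 14 16777216 γ q0 words hOK steps1 2000 483 995 h1 chk1
  rw [len1] at h2
  have h3 := checkSteps_soundD F 14 16777216 γ q0 words hOK steps2 4000 995 1168 h2 chk2
  rw [len2] at h3
  have h4 := checkSteps_soundD F 14 16777216 γ q0 words hOK steps3 6000 1168 1518 h3 chk3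
  rw [len3] at h4
  have h5 := checkSteps_soundD F 14 16777216 γ q0 words hOK steps4 8000 1518 1885 h4 chk4
  rw [len4] at h5
  have h6 := checkSteps_soundD F 14 16777216 γ q0 words hOK steps5 10000 1885 1999 h5 chk5
  rw [len5] at h6
  have h7 := checkSteps_soundD F 14 16777216 γ q0 words hOK steps6 12000 1999 2045 h6 chk6
  rw [len6] at h7
  have h8 := checkSteps_soundD F 14 16777216 γ q0 words hOK steps7 14000 2045 2388 h7 chk7
  rw [len7] at h8
  have h9 := checkSteps_soundD F 14 16777216 γ q0 words hOK steps8 16000 2388 2750 h8 chk8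
  rw [len8] at h9
  have h10 := checkSteps_soundD F 14 16777216 γ q0 words hOK steps9 18000 2750 3110 h9 chk9
  rw [len9] at h10
  have h11 := checkSteps_soundD F 14 16777216 γ q0 words hOK steps10 20000 3110 3205 h10 chk10
  rw [len10] at h11
  have h12 := checkSteps_soundD F 14 16777216 γ q0 words hOK steps11 22000 3205 3205 h11 chk11
  rw [len11] at h12
  have h13 := checkSteps_soundD F 14 16777216 γ q0 words hOK steps12 24000 3205 3205 h12 chk12
  rw [len12] at h13
  have h14 := checkSteps_soundD F 14 16777216 γ q0 words hOK steps13 26000 3205 3205 h13 chk13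
  rw [len13] at h14
  have h15 := checkSteps_soundD F 14 16777216 γ q0 words hOK steps14 28000 3205 3356 h14 chk14
  rw [len14] at h15
  have h16 := checkSteps_soundD F 14 16777216 γ q0 words hOK steps15 30000 3356 3531 h15 chk15
  rw [len15] at h16
  have h17 := checkSteps_soundD F 14 16777216 γ q0 words hOK steps16 32000 3531 3695 h16 chk16
  rw [len16] at h17
  have h18 := checkSteps_soundD F 14 16777216 γ q0 words hOK steps17 34000 3695 3853 h17 chk17
  rw [len17] at h18
  have h19 := checkSteps_soundD F 14 16777216 γ q0 words hOK steps18 36000 3853 4005 h18 chk18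
  rw [len18] at h19
  have h20 := checkSteps_soundD F 14 16777216 γ q0 words hOK steps19 38000 4005 4137 h19 chk19
  rw [len19] at h20
  have h21 := checkSteps_soundD F 14 16777216 γ q0 words hOK steps20 40000 4137 4267 h20 chk20
  rw [len20] at h21
  have h22 := checkSteps_soundD F 14 16777216 γ q0 words hOK steps21 42000 4267 4392 h21 chk21
  rw [len21] at h22
  have h23 := checkSteps_soundD F 14 16777216 γ q0 words hOK steps22 44000 4392 4506 h22 chk22
  rw [len22] at h23
  have h24 := checkSteps_soundD F 14 16777216 γ q0 words hOK steps23 46000 4506 4621 h23 chk23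
  rw [len23] at h24
  have h25 := checkSteps_soundD F 14 16777216 γ q0 words hOK steps24 48000 4621 4725 h24 chk24
  rw [len24] at h25
  have h26 := checkSteps_soundD F 14 16777216 γ q0 words hOK steps25 50000 4725 4814 h25 chk25
  rw [len25] at h26
  have h27 := checkSteps_soundD F 14 16777216 γ q0 words hOK steps26 52000 4814 4824 h26 chk26
  rw [len26] at h27
  have h28 := checkSteps_soundD F 14 16777216 γ q0 words hOK steps27 54000 4824 4824 h27 chk27
  rw [len27] at h28
  have h29 := checkSteps_soundD F 14 16777216 γ q0 words hOK steps28 56000 4824 4824 h28 chk28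
  rw [len28] at h29
  have h30 := checkSteps_soundD F 14 16777216 γ q0 words hOK steps29 58000 4824 4824 h29 chk29
  rw [len29] at h30
  exact h30

end Cfsg.Agent.Lib.H28.TitsM.Cert
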